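import Cfsg.Agent.H161.OctOrd3
import Cfsg.Agent.H161.G2Elems

/-!
# S3509, `G₂(q)`: the centraliser of `SL₃` in the automorphism group of the octonions (helper385)
-/

set_option autoImplicit false

namespace Cfsg.Agent.H385.G2

open Cfsg.Agent.H161.Oct Cfsg.Lie

theorem cen_sl {L : Type} [Field L] {z : L} (hz : z ^ 2 ≠ 1) (hz0 : z ≠ 0) {D : V L ≃ₗ[L] V L} (hD : D ∈ AutO L)
    (A1 A2 A3 : Matrix.SpecialLinearGroup (Fin 3) L) (h1 : A1.1 = Matrix.diagonal ![z, z⁻¹, 1])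
    (h2 : A2.1 = Matrix.diagonal ![z, 1, z⁻¹]) (h3 : A3.1 = P3 L) (c1 : D * slM L A1 = slM L A1 * D)
    (c2 : D * slM L A2 = slM L A2 * D) (c3 : D * slM L A3 = slM L A3 * D) : D e1 = e1 ∧ D ^ 3 = 1 := by
  have hz1 : z ≠ 1 := fun h => hz (by rw [h, one_pow])
  have hi : z⁻¹ ≠ 1 := fun h => hz1 (inv_eq_one.1 h)
  have hzi : z⁻¹ ≠ z := fun h => hz (by rw [sq]; nth_rw 1 [← h]; exact inv_mul_cancel₀ hz0)
  have s1 : ∀ x : V L, slM L A1 x = ![x 0, z * x 1, z⁻¹ * x 2, x 3, z⁻¹ * x 4, z * x 5, x 6, x 7] := by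
    intro x
    rw [slM_apply, h1]
    apply ext8 <;> simp [slF0, slF1, slF2, slF3, slF4, slF5, slF6, slF7, hz0]
  have s2 : ∀ x : V L, slM L A2 x = ![x 0, z * x 1, x 2, z⁻¹ * x 3, z⁻¹ * x 4, x 5, z * x 6, x 7] := by
    intro x
    rw [slM_apply, h2]
    apply ext8 <;> simp [slF0, slF1, slF2, slF3, slF4, slF5, slF6, slF7, hz0]
  have d1 : ∀ x, D (slM L A1 x) = slM L A1 (D x) := fun x => LinearEquiv.congr_fun c1 x
  have d2 : ∀ x, D (slM L A2 x) = slM L A2 (D x) := fun x => LinearEquiv.congr_fun c2 x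
  have hc : ∀ {c y : L}, c ≠ 1 → y = c * y → y = 0 := by
    intro c y hc h
    by_contra hy
    exact hc (mul_right_cancel₀ hy (by rw [one_mul]; exact h.symm))
  -- the image of `e1`
  have he : ∃ a b : L, D e1 = ![a, 0, 0, 0, 0, 0, 0, b] := by
    have e1' : slM L A1 e1 = e1 := by rw [s1]; apply ext8 <;> simp [e1]
    have e2' : slM L A2 e1 = e1 := by rw [s2]; apply ext8 <;> simp [e1]
    have g1 := d1 e1
    have g2 := d2 e1
    rw [e1', s1] at g1
    rw [e2', s2] at g2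
    refine ⟨D e1 0, D e1 7, ?_⟩
    apply ext8
    · rfl
    · exact hc hz1 (congrFun g1 1)
    · exact hc hi (congrFun g1 2)
    · exact hc hi (congrFun g2 3)
    · exact hc hi (congrFun g1 4)
    · exact hc hz1 (congrFun g1 5)
    · exact hc hz1 (congrFun g2 6)
    · rfl
  obtain ⟨a, b, hab⟩ := he
  -- the image of `E`
  obtain ⟨E, hE⟩ : ∃ E : V L, E = ![0, 1, 0, 0, 0, 0, 0, 0] := ⟨_, rfl⟩
  have hDE : ∃ c : L, D E = c • E := by
    have e1' : slM L A1 E = z • E := by rw [s1, hE]; apply ext8 <;> simp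
    have e2' : slM L A2 E = z • E := by rw [s2, hE]; apply ext8 <;> simp
    have g1 := d1 E
    have g2 := d2 E
    rw [e1', s1, map_smul] at g1
    rw [e2', s2, map_smul] at g2
    have hc' : ∀ {c c' y : L}, c ≠ c' → c * y = c' * y → y = 0 := by
      intro c c' y hc h
      by_contra hy
      exact hc (mul_right_cancel₀ hy h)
    have hc1 : ∀ {y : L}, z * y = y → y = 0 := fun {y} h => hc hz1 h.symm
    refine ⟨D E 1, ?_⟩
    rw [hE] at g1 g2 ⊢
    apply ext8
    · simpa using hc1 (congrFun g1 0)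
    · simp
    · simpa using hc' hzi (congrFun g1 2).symm
    · simpa using hc1 (congrFun g1 3)
    · simpa using hc' hzi (congrFun g1 4).symm
    · simpa using hc1 (congrFun g2 5)
    · simpa using hc1 (congrFun g1 6)
    · simpa using hc1 (congrFun g1 7)
  obtain ⟨c, hc0⟩ := hDE
  have hE0 : E ≠ 0 := fun h => one_ne_zero (α := L) (by rw [hE] at h; exact congrFun h 1)
  have hcne : c ≠ 0 := fun h => hE0 (D.injective (by rw [hc0, h, zero_smul, map_zero]))
  have heE : zornMul e1 E = E := by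
    rw [e1_mul, hE]
    apply ext8 <;> simp
  have ha1 : a = 1 := by
    have g := congrArg D heE
    rw [mem_AutO.1 hD, hc0, hab, hE] at g
    have g1 := congrFun g 1
    simp only [mul1] at g1
    simp at g1
    exact (mul_eq_right₀ hcne).1 g1
  have hb0 : b = 0 := by
    have g := map_tr hD e1
    rw [hab] at g
    simp only [tr, e1] at g
    simp [ha1] at g
    exact g
  have hfix : D e1 = e1 := by
    rw [hab, ha1, hb0]
    rfl
  refine ⟨hfix, ?_⟩
  obtain ⟨P, hP, hDP⟩ := exists_sl hD hfix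
  obtain ⟨Q, hQ⟩ : ∃ Q : Matrix.SpecialLinearGroup (Fin 3) L, Q = ⟨P, hP⟩ := ⟨_, rfl⟩
  have hDQ : D = slM L Q := by rw [hDP, hQ]; rfl
  rw [hDQ, ← map_mul, ← map_mul] at c1 c3
  have m1 := congrArg Subtype.val (slM_inj c1)
  have m3 := congrArg Subtype.val (slM_inj c3)
  rw [Matrix.SpecialLinearGroup.coe_mul, Matrix.SpecialLinearGroup.coe_mul, h1] at m1
  rw [Matrix.SpecialLinearGroup.coe_mul, Matrix.SpecialLinearGroup.coe_mul, h3] at m3
  have hoff : ∀ i j : Fin 3, (![z, z⁻¹, 1] : Fin 3 → L) i ≠ (![z, z⁻¹, 1] : Fin 3 → L) j → Q.1 i j = 0 := by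
    intro i j hij
    have := congrFun (congrFun m1 i) j
    rw [Matrix.mul_diagonal, Matrix.diagonal_mul] at this
    by_contra hne
    exact hij (mul_right_cancel₀ hne (this.symm.trans (mul_comm _ _)))
  have q01 : Q.1 0 1 = 0 := hoff 0 1 (Ne.symm hzi)
  have q02 : Q.1 0 2 = 0 := hoff 0 2 hz1
  have q10 : Q.1 1 0 = 0 := hoff 1 0 hzi
  have q12 : Q.1 1 2 = 0 := hoff 1 2 hi
  have q20 : Q.1 2 0 = 0 := hoff 2 0 (Ne.symm hz1)
  have q21 : Q.1 2 1 = 0 := hoff 2 1 (Ne.symm hi)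
  have q11 : Q.1 1 1 = Q.1 0 0 := by
    have := congrFun (congrFun m3 1) 0
    simpa [Matrix.mul_apply, Fin.sum_univ_three, P3] using this
  have q22 : Q.1 2 2 = Q.1 0 0 := by
    have := congrFun (congrFun m3 2) 1
    simpa [Matrix.mul_apply, Fin.sum_univ_three, P3, q11] using this
  have hsc : Q.1 = Q.1 0 0 • (1 : Matrix (Fin 3) (Fin 3) L) := by
    ext i j
    fin_cases i <;> fin_cases j <;> simp [q01, q02, q10, q12, q20, q21, q11, q22]
  have hcube : Q.1 0 0 ^ 3 = 1 := by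
    have := Q.2
    rw [det3, q01, q02, q10, q12, q20, q21, q11, q22] at this
    linear_combination this
  have hQ3 : Q ^ 3 = 1 := by
    apply Subtype.ext
    rw [Matrix.SpecialLinearGroup.coe_pow, hsc, smul_pow, hcube, one_pow, one_smul]
    rfl
  rw [hDQ, ← map_pow, hQ3, map_one]

end Cfsg.Agent.H385.G2
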